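import Cfsg.Agent.H951.OreU.Base

/-!
# S2446, T7a: type I vectors and steps
-/

set_option autoImplicit false

namespace Cfsg.Agent.H951.OreU

open Module Polynomial Cfsg.Agent.H951 Cfsg.Agent.H98.Ore Cfsg.Agent.LieClassical

variable {F V : Type*} [Field F] [Fintype F] [AddCommGroup V] [Module F V]
  {q : ℕ} {σ : F →+* F} {B : V → V → F}

/-- If the hermitian-type expression `B (c x) x` vanishes at all `w + a • y`, then `B (c w) y = 0`. -/
lemma polar_zero (hB : HS q σ B) (c : End F V) {w y : V} (h : ∀ a : F, B (c (w + a • y)) (w + a • y) = 0)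
    (hy : B (c y) y = 0) : B (c w) y = 0 := by
  have h0 : B (c w) w = 0 := by
    have := h 0
    rwa [zero_smul, add_zero] at this
  have h1 : ∀ a : F, σ a * B (c w) y + a * B (c y) w = 0 := by
    intro a
    have := h a
    rw [map_add, map_smul, hB.frm.add_left, hB.frm.add_right, hB.frm.add_right, hB.frm.smul_left, hB.frm.smul_left,
      hB.frm.smul_right, hB.frm.smul_right, h0, hy] at this
    linear_combination this
  obtain ⟨a, ha⟩ := exists_sig_ne hB
  have h2 := h1 1
  have h3 := h1 a
  rw [map_one, one_mul, one_mul] at h2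
  have h4 : (σ a - a) * B (c w) y = 0 := by linear_combination h3 - a * h2
  rcases mul_eq_zero.1 h4 with h5 | h5
  · exact absurd (sub_eq_zero.1 h5) ha
  · exact h5

/-- If `B (c w) w = 0` for all isotropic `w`, then all isotropic `w` are eigenvectors. -/
lemma eigen_of_zero (hB : HS q σ B) [FiniteDimensional F V] (c : End F V)
    (h : ∀ w, B w w = 0 → B (c w) w = 0) {w : V} (hw : B w w = 0) (hcw : B (c w) (c w) = 0) :
    ∃ l : F, c w = l • w := by
  by_cases hw0 : w = 0
  · exact ⟨0, by rw [hw0, map_zero, smul_zero]⟩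
  by_contra hno
  push Not at hno
  have hcw' : B (c w) w = 0 := h w hw
  -- some vector orthogonal to `w` is not orthogonal to `c w`
  have h1 : ∃ v, B v w = 0 ∧ B (c w) v ≠ 0 := by
    by_contra h2
    push Not at h2
    obtain ⟨w', h0', h1'⟩ := exists_partner hB hw0 hw
    apply hno (B (c w) w')
    rw [← sub_eq_zero]
    apply hB.nd
    intro v
    have hw'w : B w' w = 1 := by rw [symm hB w w', h1', map_one]
    have h3 := h2 (v - (B v w) • w') (by rw [hB.frm.sub_left, hB.frm.smul_left, hw'w, mul_one, sub_self])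
    rw [hB.frm.sub_right, hB.frm.smul_right] at h3
    rw [hB.frm.sub_left, hB.frm.smul_left, symm hB v w]
    linear_combination h3
  obtain ⟨v, hvw, hcv⟩ := h1
  obtain ⟨a, ha⟩ := exists_iso hB hcw hcv
  have hyw : B (v + a • c w) w = 0 := by rw [hB.frm.add_left, hB.frm.smul_left, hvw, hcw', mul_zero, add_zero]
  have hwy : B w (v + a • c w) = 0 := hB.frm.eq_zero_comm.1 hyw
  have h4 : B (c w) (v + a • c w) = 0 := by
    apply polar_zero hB c _ (h _ ha)
    intro b
    apply h
    rw [hB.frm.add_left, hB.frm.add_right, hB.frm.add_right, hB.frm.smul_left, hB.frm.smul_left, hB.frm.smul_right,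
      hB.frm.smul_right, hw, ha, hyw, hwy]
    ring
  rw [hB.frm.add_right, hB.frm.smul_right, hcw, mul_zero, add_zero] at h4
  exact hcv h4

/-- A map for which all isotropic vectors are eigenvectors is scalar. -/
lemma scalar_of_eigen (hB : HS q σ B) [FiniteDimensional F V] (c : End F V) (hn : 2 ≤ finrank F V)
    (h : ∀ w, B w w = 0 → ∃ l : F, c w = l • w) : ∃ l : F, c = l • (1 : End F V) := by
  obtain ⟨w, w', hw, hw', hww⟩ := exists_hyp hB hn
  have hww' : B w' w = 1 := by rw [symm hB w w', hww, map_one]
  obtain ⟨l, hl⟩ := h w hw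
  obtain ⟨l', hl'⟩ := h w' hw'
  obtain ⟨t, ht0, ht⟩ := exists_tr_zero hB
  -- eigenvector `w + t w'`
  have h1 : B (w + t • w') (w + t • w') = 0 := by
    rw [hB.frm.add_left, hB.frm.add_right, hB.frm.add_right, hB.frm.smul_left, hB.frm.smul_left, hB.frm.smul_right,
      hB.frm.smul_right, hw, hw', hww, hww']
    linear_combination ht
  obtain ⟨m, hm⟩ := h _ h1
  rw [map_add, map_smul, hl, hl'] at hm
  have h2 : l = m := by
    have := congrArg (fun z => B z w') hm
    simp only [hB.frm.add_left, hB.frm.smul_left, hww, hw'] at this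
    linear_combination this
  have h3 : l' = m := by
    have := congrArg (fun z => B z w) hm
    simp only [hB.frm.add_left, hB.frm.smul_left, hww', hw] at this
    have h4 : t * (l' - m) = 0 := by linear_combination this
    rcases mul_eq_zero.1 h4 with h5 | h5
    · exact absurd h5 ht0
    · exact sub_eq_zero.1 h5
  have h4 : l' = l := h3.trans h2.symm
  subst h4
  -- the orthogonal of the plane
  refine ⟨l', ?_⟩
  have hv : ∀ v, B v w = 0 → B v w' = 0 → c v = l' • v := by
    intro v hvw hvw'
    obtain ⟨s, hs⟩ := exists_tr hB (c := -B v v) (by rw [map_neg, self_fix hB])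
    have hwv : B w v = 0 := hB.frm.eq_zero_comm.1 hvw
    have hwv' : B w' v = 0 := hB.frm.eq_zero_comm.1 hvw'
    have hx : ∀ r : F, r + σ r = -B v v → B (w + v + r • w') (w + v + r • w') = 0 := by
      intro r hr
      simp only [hB.frm.add_left, hB.frm.add_right, hB.frm.smul_left, hB.frm.smul_right, hw, hw', hww, hww', hvw,
        hvw', hwv, hwv']
      linear_combination hr
    -- two different eigenvectors `w + v + s w'` and `w + v + (s + t) w'`
    obtain ⟨m1, hm1⟩ := h _ (hx s hs)
    obtain ⟨m2, hm2⟩ := h _ (hx (s + t) (by rw [map_add]; linear_combination hs + ht))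
    rw [map_add, map_add, map_smul, hl, hl'] at hm1 hm2
    -- difference
    have h5 : (t * l') • w' = (m2 - m1) • w + (m2 - m1) • v + (m2 * (s + t) - m1 * s) • w' := by
      linear_combination (norm := module) hm2 - hm1
    have h6 : m2 = m1 := by
      have := congrArg (fun z => B z w') h5
      simp only [hB.frm.add_left, hB.frm.smul_left, hww, hw', hvw'] at this
      linear_combination -this
    rw [h6] at h5
    have h7 : m1 = l' := by
      have := congrArg (fun z => B z w) h5
      simp only [hB.frm.add_left, hB.frm.smul_left, hww', hw, hvw] at this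
      have h8 : t * (l' - m1) = 0 := by linear_combination this
      rcases mul_eq_zero.1 h8 with h9 | h9
      · exact absurd h9 ht0
      · exact (sub_eq_zero.1 h9).symm
    rw [h7] at hm1
    linear_combination (norm := module) hm1
  ext v
  rw [LinearMap.smul_apply, Module.End.one_apply]
  have h5 := hv (v - B v w' • w - B v w • w')
    (by rw [hB.frm.sub_left, hB.frm.sub_left, hB.frm.smul_left, hB.frm.smul_left, hw, hww']; ring)
    (by rw [hB.frm.sub_left, hB.frm.sub_left, hB.frm.smul_left, hB.frm.smul_left, hw', hww]; ring)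
  rw [map_sub, map_sub, map_smul, map_smul, hl, hl'] at h5
  linear_combination (norm := module) h5

theorem exists_typeI [FiniteDimensional F V] (hB : HS q σ B) {g : End F V} (hg : Isom B g)
    (hns : ∀ c : F, g ≠ c • (1 : End F V)) :
    ∃ w, B w w = 0 ∧ B (g w) w ≠ 0 := by
  by_contra hno
  push Not at hno
  have hn : 2 ≤ finrank F V := by
    by_contra hlt
    have h1 : finrank F V ≤ 1 := by omega
    rw [finrank_le_one_iff] at h1
    obtain ⟨v, hv⟩ := h1
    obtain ⟨c, hc⟩ := hv (g v)
    apply hns c
    ext u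
    obtain ⟨a, rfl⟩ := hv u
    rw [map_smul, ← hc, LinearMap.smul_apply, Module.End.one_apply, smul_comm]
  obtain ⟨l, hl⟩ := scalar_of_eigen hB g hn (fun w hw => eigen_of_zero hB g hno hw (by rw [hg, hw]))
  exact hns l hl

theorem exists_step [FiniteDimensional F V] (hB : HS q σ B) {g : End F V} (hg : Isom B g) {w : V}
    (h0 : B w w = 0) (h1 : B (g w) w ≠ 0) :
    ∃ (U : Submodule F V) (g₁ : End F U) (b : U → F), Step B g w U g₁ b := by
  have hmem : ∀ v ∈ pp hB w (g w), g v - (B (g v) w * (B (g w) w)⁻¹) • g w ∈ pp hB w (g w) := by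
    intro v hv
    rw [mem_pp] at hv ⊢
    constructor
    · rw [hB.frm.sub_left, hB.frm.smul_left, mul_assoc, inv_mul_cancel₀ h1, mul_one, sub_self]
    · rw [hB.frm.sub_left, hB.frm.smul_left, hg, hg, hv.1, h0, mul_zero, sub_zero]
  let g₁ : End F (pp hB w (g w)) :=
    { toFun := fun v => ⟨g v - (B (g v) w * (B (g w) w)⁻¹) • g w, hmem v v.2⟩
      map_add' := fun u v => by
        apply Subtype.ext
        simp only [Submodule.coe_add, map_add, hB.frm.add_left, add_mul, add_smul]
        abel
      map_smul' := fun a v => by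
        apply Subtype.ext
        simp only [Submodule.coe_smul, map_smul, hB.frm.smul_left, RingHom.id_apply, smul_sub, smul_smul, mul_assoc] }
  have hg₁ : ∀ v, ((g₁ v : pp hB w (g w)) : V) = g v - (B (g v) w * (B (g w) w)⁻¹) • g w := fun v => rfl
  refine ⟨pp hB w (g w), g₁, fun v => B (g v) w * (B (g w) w)⁻¹, h0, h1, fun v => Iff.rfl, ?_, ?_⟩
  · intro u v
    change B (g₁ u : V) (g₁ v : V) = B (u : V) v
    have hu := (mem_pp hB).1 u.2
    have hv := (mem_pp hB).1 v.2
    rw [hg₁, hg₁, hB.frm.sub_left, hB.frm.sub_right, hB.frm.sub_right, hB.frm.smul_left, hB.frm.smul_left,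
      hB.frm.smul_right, hB.frm.smul_right, hg, hg, hg, hg, h0, hu.1, hB.frm.eq_zero_comm.1 hv.1]
    ring
  · intro v
    rw [hg₁]
    exact (sub_add_cancel _ _).symm

theorem Step.hs [FiniteDimensional F V] (hB : HS q σ B) {g : End F V} (hg : Isom B g) {w : V} {U : Submodule F V}
    {g₁ : End F U} {b : U → F} (h : Step B g w U g₁ b) :
    HS q σ (res B U) ∧ finrank F U + 2 = finrank F V := by
  have hx : B (g w) (g w) = 0 := by rw [hg, h.iso]
  exact ⟨hs_res hB h.iso hx h.ne h.mem, finrank_pp hB h.iso hx h.ne h.mem⟩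

end Cfsg.Agent.H951.OreU
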