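import Cfsg.Agent.H951.OreU.Frame

/-!
# S2446, T6: isometries with `rank (g - c) = 1`
-/

set_option autoImplicit false

namespace Cfsg.Agent.H951.OreU

open Module Polynomial Cfsg.Agent.H951 Cfsg.Agent.H98.Ore Cfsg.Agent.LieClassical

variable {F V : Type*} [Field F] [Fintype F] [AddCommGroup V] [Module F V] [FiniteDimensional F V]
  {q : ℕ} {σ : F →+* F} {B : V → V → F}

theorem rank_one_form (hB : HS q σ B) (hn : 3 ≤ finrank F V) {g : End F V} (hg : Isom B g) {c : F}
    (hc : finrank F (LinearMap.range (g - c • (1 : End F V))) = 1) :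
    c ^ (q + 1) = 1 ∧ ∃ (e : V) (k : F), e ≠ 0 ∧ k ≠ 0 ∧ ∀ v, g v = c • v + (k * B v e) • e := by
  set d : End F V := g - c • (1 : End F V) with hd
  have hd' : ∀ v, d v = g v - c • v := fun v => rfl
  have hrk := LinearMap.finrank_range_add_finrank_ker d
  -- the kernel is not totally isotropic
  have hnti : ¬ TI B (LinearMap.ker d) := by
    intro h
    have h1 := hB.frm.two_mul_finrank_le (U := (⊤ : Submodule F V))
      (fun u _ hu => by obtain ⟨v, hv⟩ := exists_ne hB hu; exact ⟨v, trivial, hv⟩) le_top h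
    rw [finrank_top] at h1
    omega
  have hcc : c * σ c = 1 := by
    unfold TI at hnti
    push Not at hnti
    obtain ⟨u, hu, v, hv, huv⟩ := hnti
    rw [LinearMap.mem_ker, hd', sub_eq_zero] at hu hv
    have h1 := hg u v
    rw [hu, hv, hB.frm.smul_left, hB.frm.smul_right] at h1
    have h2 : (c * σ c - 1) * B u v = 0 := by linear_combination h1
    rcases mul_eq_zero.1 h2 with h3 | h3
    · exact sub_eq_zero.1 h3
    · exact absurd h3 huv
  refine ⟨by rw [pow_succ', ← hB.sig]; exact hcc, ?_⟩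
  -- the range is a line
  obtain ⟨⟨e, he⟩, he0, hspan⟩ := finrank_eq_one_iff'.1 hc
  have he0' : e ≠ 0 := fun h => he0 (Subtype.ext h)
  have hphi : ∀ v, ∃ a : F, d v = a • e := by
    intro v
    obtain ⟨a, ha⟩ := hspan ⟨d v, LinearMap.mem_range_self d v⟩
    exact ⟨a, (congrArg Subtype.val ha).symm⟩
  -- the kernel is orthogonal to the range
  have horth : ∀ u ∈ LinearMap.ker d, B u e = 0 := by
    intro u hu
    obtain ⟨x, rfl⟩ := he
    rw [LinearMap.mem_ker, hd', sub_eq_zero] at hu
    have h1 := hg u x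
    rw [hu, hB.frm.smul_left] at h1
    rw [hd', hB.frm.sub_right, hB.frm.smul_right]
    linear_combination σ c * h1 - B u (g x) * hcc
  -- the kernel is the orthogonal of `e`
  have hker : LinearMap.ker d = hB.frm.perp (Submodule.span F {e}) := by
    apply Submodule.eq_of_le_of_finrank_eq
    · intro u hu w hw
      obtain ⟨a, rfl⟩ := Submodule.mem_span_singleton.1 hw
      rw [hB.frm.smul_right, horth u hu, mul_zero]
    · have h1 := hB.frm.finrank_perp_inf' (U := (⊤ : Submodule F V)) (W := Submodule.span F {e})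
        (fun u _ hu => by obtain ⟨v, hv⟩ := exists_ne hB hu; exact ⟨v, trivial, hv⟩) le_top
      rw [finrank_span_singleton he0', finrank_top, inf_top_eq] at h1
      omega
  obtain ⟨v0, hv0⟩ := exists_eq_one hB he0'
  have hv0' : B v0 e = 1 := by rw [symm hB e v0, hv0, map_one]
  obtain ⟨k, hk⟩ := hphi v0
  have hform : ∀ v, d v = (k * B v e) • e := by
    intro v
    have h1 : v - B v e • v0 ∈ LinearMap.ker d := by
      rw [hker]
      intro w hw
      obtain ⟨a, rfl⟩ := Submodule.mem_span_singleton.1 hw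
      rw [hB.frm.smul_right, hB.frm.sub_left, hB.frm.smul_left, hv0', mul_one, sub_self, mul_zero]
    rw [LinearMap.mem_ker, map_sub, map_smul, hk, sub_eq_zero] at h1
    rw [h1, smul_smul, mul_comm]
  refine ⟨e, k, he0', ?_, fun v => ?_⟩
  · rintro rfl
    apply he0'
    obtain ⟨x, rfl⟩ := he
    rw [hform, zero_mul, zero_smul]
  · rw [← hform, hd', add_sub_cancel]

theorem frame_transv (hB : HS q σ B) {m : ℕ} (hm : 2 ≤ m) (hn : finrank F V = 2 * m) {g : End F V} {c k : F} {e : V}
    (hc : c ≠ 0) (hk : k ≠ 0) (he : e ≠ 0) (hee : B e e = 0) (hgv : ∀ v, g v = c • v + (k * B v e) • e) :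
    ∃ u φ : Fin m → F, u ≠ 0 ∧ φ ≠ 0 ∧ φ ⬝ᵥ u = 0 ∧
      Cor B g (c • ((1 : Matrix (Fin m) (Fin m) F) + Matrix.vecMulVec u φ)) := by
  obtain ⟨m, rfl⟩ : ∃ k, m = k + 2 := ⟨m - 2, by omega⟩
  obtain ⟨w, w', h, h0⟩ := exists_fr_with hB he hee (m := m + 1) (by omega)
  have h01 : (0 : Fin (m + 2)) ≠ 1 := Fin.zero_ne_one
  refine ⟨Pi.single 0 (c⁻¹ * k), Pi.single 1 1, ?_, ?_, ?_, _, _, fr_modify hB h 0 1, ?_⟩
  · intro h1
    have := congrFun h1 0
    rw [Pi.single_eq_same] at this
    exact mul_ne_zero (inv_ne_zero hc) hk this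
  · intro h1
    have := congrFun h1 1
    rw [Pi.single_eq_same] at this
    exact one_ne_zero this
  · rw [single_dotProduct, one_mul, Pi.single_eq_of_ne h01.symm]
  · intro i j
    have h' : ∀ i j, B (w' i) (w j) = if i = j then 1 else 0 := by
      intro i j
      rw [symm hB (w j) (w' i), h.dual]
      by_cases hij : i = j
      · subst hij; simp
      · rw [if_neg hij, if_neg (Ne.symm hij), map_zero]
    rw [hgv, ← h0]
    simp only [hB.frm.add_left, hB.frm.sub_left, hB.frm.smul_left, h.ww', h.dual, h.ww, h', Matrix.smul_apply,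
      Matrix.add_apply, Matrix.one_apply, Matrix.vecMulVec_apply, Pi.single_apply, smul_eq_mul]
    by_cases h1 : i = 0 <;> by_cases h2 : i = j <;> by_cases h3 : j = 1 <;> simp_all [eq_comm]

/-- `comm_aniso` with T5 (`comm_scalar`) as a hypothesis. -/
theorem comm_aniso_of (T5 : ∀ U : Submodule F V, HS q σ (res B U) → ∀ l : F, l ^ (q + 1) = 1 →
      l ^ finrank F U = 1 → IsComm (res B U) (l • (1 : End F U)))
    (hB : HS q σ B) {g : End F V} (hdet : LinearMap.det g = 1) {c k : F} {e : V}
    (hc : c ^ (q + 1) = 1) (hcn : c ^ (finrank F V - 1) = 1) (hee : B e e ≠ 0)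
    (hgv : ∀ v, g v = c • v + (k * B v e) • e) : IsComm B g := by
  let U : Submodule F V := hB.frm.perp (Submodule.span F {e})
  have hU : ∀ v, v ∈ U ↔ B v e = 0 := by
    intro v
    constructor
    · intro h
      exact h e (Submodule.mem_span_singleton_self e)
    · intro h w hw
      obtain ⟨a, rfl⟩ := Submodule.mem_span_singleton.1 hw
      rw [hB.frm.smul_right, h, mul_zero]
  have hfr := finrank_aniso hB hee hU
  have hcU : c ^ finrank F U = 1 := by
    rw [show finrank F V - 1 = finrank F U by omega] at hcn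
    exact hcn
  have hg : g = ext1 hB hee hU (c • (1 : End F U)) (c + k * B e e) := by
    apply eq_ext1
    · intro u
      rw [hgv, (hU _).1 u.2, mul_zero, zero_smul, add_zero]
      rfl
    · rw [hgv, add_smul]
  have h1 : c + k * B e e = 1 := by
    have h2 := hdet
    rw [hg, det_ext1, LinearMap.det_smul, hcU, map_one, one_mul, one_mul] at h2
    exact h2
  rw [h1] at hg
  obtain ⟨z, h, hz, hh, hdz, hdh, hcomm⟩ := T5 U (hs_res_aniso hB hee hU) c hc hcU
  refine ⟨ext1 hB hee hU z 1, ext1 hB hee hU h 1, isom_ext1 hB hee hU hz (by rw [map_one, mul_one]),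
    isom_ext1 hB hee hU hh (by rw [map_one, mul_one]), by rw [det_ext1, hdz, mul_one],
    by rw [det_ext1, hdh, mul_one], ?_⟩
  rw [hg, ext1_mul, ext1_mul, ext1_mul, hcomm, mul_one, mul_one]

end Cfsg.Agent.H951.OreU
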