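import Cfsg.Agent.H951.OreU.Base

/-!
# S2446: frames (existence, extension, modification), anisotropic vectors
-/

set_option autoImplicit false

namespace Cfsg.Agent.H951.OreU

open Module Polynomial Cfsg.Agent.H951 Cfsg.Agent.H98.Ore Cfsg.Agent.LieClassical

universe u v

variable {F : Type u} {V : Type v} [Field F] [Fintype F] [AddCommGroup V] [Module F V]
  {q : ℕ} {σ : F →+* F} {B : V → V → F}

/-- Extension of a frame by a hyperbolic pair. -/
lemma fr_cons (hB : HS q σ B) {w x : V} (hw : B w w = 0) (hx : B x x = 0) (hwx : B w x = 1) {U : Submodule F V}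
    (hU : ∀ v, v ∈ U ↔ B v w = 0 ∧ B v x = 0) {k : ℕ} {u u' : Fin k → U} (h : Fr (res B U) u u') :
    Fr B (Fin.cons w (fun i => (u i : V)) : Fin (k + 1) → V) (Fin.cons x (fun i => (u' i : V)) : Fin (k + 1) → V) := by
  have hxw : B x w = 1 := by rw [symm hB w x, hwx, map_one]
  have h1 : ∀ v : U, B (v : V) w = 0 := fun v => ((hU _).1 v.2).1
  have h2 : ∀ v : U, B (v : V) x = 0 := fun v => ((hU _).1 v.2).2
  have h3 : ∀ v : U, B w (v : V) = 0 := fun v => hB.frm.eq_zero_comm.1 (h1 v)
  have h4 : ∀ v : U, B x (v : V) = 0 := fun v => hB.frm.eq_zero_comm.1 (h2 v)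
  have h5 : ∀ i j, B (u i : V) (u j : V) = 0 := h.ww
  have h6 : ∀ i j, B (u' i : V) (u' j : V) = 0 := h.ww'
  have h7 : ∀ i j, B (u i : V) (u' j : V) = if i = j then 1 else 0 := h.dual
  refine ⟨?_, ?_, ?_⟩
  · refine Fin.cases (Fin.cases ?_ fun j => ?_) fun i => Fin.cases ?_ fun j => ?_
    · simpa using hw
    · simpa using h3 _
    · simpa using h1 _
    · simpa using h5 i j
  · refine Fin.cases (Fin.cases ?_ fun j => ?_) fun i => Fin.cases ?_ fun j => ?_
    · simpa using hwx
    · have : (0 : Fin (k + 1)) ≠ j.succ := (Fin.succ_ne_zero j).symm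
      rw [if_neg this]
      simpa using h3 _
    · rw [if_neg (Fin.succ_ne_zero i)]
      simpa using h2 _
    · simpa using h7 i j
  · refine Fin.cases (Fin.cases ?_ fun j => ?_) fun i => Fin.cases ?_ fun j => ?_
    · simpa using hx
    · simpa using h4 _
    · simpa using h2 _
    · simpa using h6 i j

/-- There are frames. -/
theorem exists_fr (m : ℕ) : ∀ {V : Type v} [AddCommGroup V] [Module F V] [FiniteDimensional F V] {B : V → V → F},
    HS q σ B → 2 * m ≤ finrank F V → ∃ w w' : Fin m → V, Fr B w w' := by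
  induction m with
  | zero =>
    intro V _ _ _ B hB _
    exact ⟨Fin.elim0, Fin.elim0, ⟨fun i => i.elim0, fun i => i.elim0, fun i => i.elim0⟩⟩
  | succ m ih =>
    intro V _ _ _ B hB hm
    obtain ⟨w, x, hw, hx, hwx⟩ := exists_hyp hB (by omega)
    have hxw : B x w ≠ 0 := by rw [symm hB w x, hwx, map_one]; exact one_ne_zero
    have hU : ∀ v, v ∈ pp hB w x ↔ B v w = 0 ∧ B v x = 0 := fun v => Iff.rfl
    have h1 := hs_res hB hw hx hxw hU
    have h2 := finrank_pp hB hw hx hxw hU
    obtain ⟨u, u', h⟩ := ih h1 (by omega)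
    exact ⟨_, _, fr_cons hB hw hx hwx hU h⟩

/-- There are frames starting with a given isotropic vector. -/
theorem exists_fr_with [FiniteDimensional F V] (hB : HS q σ B) {e : V} (he : e ≠ 0) (hee : B e e = 0) {m : ℕ}
    (hm : 2 * (m + 1) ≤ finrank F V) : ∃ w w' : Fin (m + 1) → V, Fr B w w' ∧ w 0 = e := by
  obtain ⟨x, hx, hwx⟩ := exists_partner hB he hee
  have hxw : B x e ≠ 0 := by rw [symm hB e x, hwx, map_one]; exact one_ne_zero
  have hU : ∀ v, v ∈ pp hB e x ↔ B v e = 0 ∧ B v x = 0 := fun v => Iff.rfl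
  have h1 := hs_res hB hee hx hxw hU
  have h2 := finrank_pp hB hee hx hxw hU
  obtain ⟨u, u', h⟩ := exists_fr m h1 (by omega)
  exact ⟨_, _, fr_cons hB hee hx hwx hU h, rfl⟩

/-- Modification of a frame. -/
lemma fr_modify (hB : HS q σ B) {ι : Type*} [DecidableEq ι] {w w' : ι → V} (h : Fr B w w') (i₀ i₁ : ι) :
    Fr B (fun i => w i + (if i = i₁ then (1 : F) else 0) • w' i₀ - (if i = i₀ then (1 : F) else 0) • w' i₁) w' := by
  have h' : ∀ i j, B (w' i) (w j) = if i = j then 1 else 0 := by
    intro i j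
    rw [symm hB (w j) (w' i), h.dual]
    by_cases hij : i = j
    · subst hij; simp
    · rw [if_neg hij, if_neg (Ne.symm hij), map_zero]
  refine ⟨?_, ?_, h.ww'⟩
  · intro i j
    simp only [hB.frm.add_left, hB.frm.add_right, hB.frm.sub_left, hB.frm.sub_right, hB.frm.smul_left,
      hB.frm.smul_right, h.ww, h.ww', h.dual, h']
    by_cases h1 : i = i₁ <;> by_cases h2 : i = i₀ <;> by_cases h3 : j = i₁ <;> by_cases h4 : j = i₀ <;>
      simp_all [eq_comm]
  · intro i j
    simp only [hB.frm.add_left, hB.frm.sub_left, hB.frm.smul_left, h.ww', h.dual]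
    simp

/-! ### anisotropic vectors -/

section aniso

/-- The decomposition `V = U ⊕ ⟨e⟩`. -/
noncomputable def dec (hB : HS q σ B) {e : V} (hee : B e e ≠ 0) {U : Submodule F V} (hU : ∀ v, v ∈ U ↔ B v e = 0) :
    (U × F) ≃ₗ[F] V where
  toFun x := (x.1 : V) + x.2 • e
  map_add' x y := by
    rw [Prod.fst_add, Prod.snd_add, Submodule.coe_add, add_smul]
    abel
  map_smul' a x := by
    rw [Prod.smul_fst, Prod.smul_snd, Submodule.coe_smul, smul_eq_mul, mul_smul, RingHom.id_apply, smul_add]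
  invFun v := (⟨v - (B v e * (B e e)⁻¹) • e, by
    rw [hU, hB.frm.sub_left, hB.frm.smul_left, mul_assoc, inv_mul_cancel₀ hee, mul_one, sub_self]⟩,
    B v e * (B e e)⁻¹)
  left_inv x := by
    have h1 : B ((x.1 : V) + x.2 • e) e * (B e e)⁻¹ = x.2 := by
      rw [hB.frm.add_left, hB.frm.smul_left, (hU _).1 x.1.2, zero_add, mul_assoc, mul_inv_cancel₀ hee, mul_one]
    apply Prod.ext
    · apply Subtype.ext
      simp only [h1, add_sub_cancel_right]
    · simp only [h1]
  right_inv v := by
    simp only [sub_add_cancel]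

variable (hB : HS q σ B) {e : V} (hee : B e e ≠ 0) {U : Submodule F V} (hU : ∀ v, v ∈ U ↔ B v e = 0)

lemma dec_apply (u : U) (a : F) : dec hB hee hU (u, a) = (u : V) + a • e := rfl

lemma form_dec (u u' : U) (a a' : F) :
    B (dec hB hee hU (u, a)) (dec hB hee hU (u', a')) = B (u : V) u' + a * σ a' * B e e := by
  rw [dec_apply, dec_apply, hB.frm.add_left, hB.frm.add_right, hB.frm.add_right, hB.frm.smul_left,
    hB.frm.smul_left, hB.frm.smul_right, hB.frm.smul_right, (hU _).1 u.2, hB.frm.eq_zero_comm.1 ((hU _).1 u'.2)]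
  ring

include hB hee hU in
lemma hs_res_aniso : HS q σ (res B U) where
  card := hB.card
  sig := hB.sig
  frm := by
    refine ⟨?_, ?_, ?_, hB.frm.sigma_sq, hB.frm.eps_ne⟩
    · intro u v w'
      exact hB.frm.add_left _ _ _
    · intro a u v
      exact hB.frm.smul_left _ _ _
    · intro u v
      exact hB.frm.herm _ _
  nd := by
    intro u hu
    apply Subtype.ext
    apply hB.nd
    intro v
    obtain ⟨⟨u', a⟩, rfl⟩ := (dec hB hee hU).surjective v
    have h1 : B (u : V) u' = 0 := hu u'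
    rw [dec_apply, hB.frm.add_right, hB.frm.smul_right, h1, (hU _).1 u.2, mul_zero, add_zero]

include hB hee hU in
lemma finrank_aniso [FiniteDimensional F V] : finrank F U + 1 = finrank F V := by
  rw [← (dec hB hee hU).finrank_eq, Module.finrank_prod, Module.finrank_self]

/-- The endomorphism `z` on `U`, multiplication by `c` on `e`. -/
noncomputable def ext1 (z : End F U) (c : F) : End F V :=
  (dec hB hee hU).conj (z.prodMap (c • (1 : End F F)))

lemma ext1_apply (z : End F U) (c : F) (u : U) (a : F) :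
    ext1 hB hee hU z c (dec hB hee hU (u, a)) = dec hB hee hU (z u, c * a) := by
  rw [ext1, LinearEquiv.conj_apply_apply, LinearEquiv.symm_apply_apply]
  rfl

lemma eq_ext1 {g : End F V} {z : End F U} {c : F} (h1 : ∀ u : U, g u = z u) (h2 : g e = c • e) :
    g = ext1 hB hee hU z c := by
  ext v
  obtain ⟨⟨u, a⟩, rfl⟩ := (dec hB hee hU).surjective v
  rw [ext1_apply, dec_apply, dec_apply, map_add, map_smul, h1, h2, smul_smul, mul_comm]

lemma ext1_mul (z z' : End F U) (c c' : F) :
    ext1 hB hee hU z c * ext1 hB hee hU z' c' = ext1 hB hee hU (z * z') (c * c') := by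
  ext v
  obtain ⟨⟨u, a⟩, rfl⟩ := (dec hB hee hU).surjective v
  rw [Module.End.mul_apply, ext1_apply, ext1_apply, ext1_apply, Module.End.mul_apply, mul_assoc]

lemma det_ext1 [FiniteDimensional F V] (z : End F U) (c : F) :
    LinearMap.det (ext1 hB hee hU z c) = LinearMap.det z * c := by
  rw [ext1, LinearEquiv.conj_apply, LinearMap.comp_assoc, LinearMap.det_conj, LinearMap.det_prodMap, LinearMap.det_smul, Module.finrank_self, pow_one, map_one,
    mul_one]

lemma isom_ext1 {z : End F U} (hz : Isom (res B U) z) {c : F} (hc : c * σ c = 1) : Isom B (ext1 hB hee hU z c) := by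
  intro v v'
  obtain ⟨⟨u, a⟩, rfl⟩ := (dec hB hee hU).surjective v
  obtain ⟨⟨u', a'⟩, rfl⟩ := (dec hB hee hU).surjective v'
  have h1 : B (z u : V) (z u' : V) = B (u : V) u' := hz u u'
  rw [ext1_apply, ext1_apply, form_dec hB hee hU, form_dec hB hee hU, h1, map_mul]
  linear_combination (a * σ a' * B e e) * hc

end aniso

end Cfsg.Agent.H951.OreU
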