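import Cfsg.Agent.H98.Ore.Defs

/-!
# S2446: elementary facts on nondegenerate hermitian forms over finite fields (`HS`)
-/

set_option autoImplicit false

namespace Cfsg.Agent.H951.OreU

open Module Polynomial Cfsg.Agent.H951 Cfsg.Agent.H98.Ore Cfsg.Agent.LieClassical

variable {F V : Type*} [Field F] [Fintype F] [AddCommGroup V] [Module F V]
  {q : ℕ} {σ : F →+* F} {B : V → V → F}

section

variable (hB : HS q σ B)

include hB

lemma symm (u v : V) : B v u = σ (B u v) := by
  rw [hB.frm.herm u v, one_mul]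

lemma self_fix (v : V) : σ (B v v) = B v v := (symm hB v v).symm

lemma sig_sig (a : F) : σ (σ a) = a := hB.frm.sigma_sq a

lemma sig_ne {a : F} (ha : a ≠ 0) : σ a ≠ 0 := by
  intro h
  apply ha
  rw [← sig_sig hB a, h, map_zero]

lemma exists_tr {c : F} (hc : σ c = c) : ∃ x : F, x + σ x = c := by
  rw [hB.sig] at hc
  obtain ⟨x, hx⟩ := HermBasic.exists_trace_eq hB.card hc
  exact ⟨x, by rw [hB.sig]; exact hx⟩

lemma exists_nm {c : F} (hc : σ c = c) (h0 : c ≠ 0) : ∃ x : F, x ≠ 0 ∧ x * σ x = c := by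
  rw [hB.sig] at hc
  obtain ⟨x, hx⟩ := HermBasic.exists_norm_eq hB.card hc
  refine ⟨x, ?_, by rw [hB.sig]; exact hx⟩
  rintro rfl
  rw [zero_mul] at hx
  exact h0 hx.symm

lemma exists_sig_ne : ∃ x : F, σ x ≠ x := by
  obtain ⟨x, hx⟩ := HermBasic.exists_not_fixed hB.card
  exact ⟨x, by rw [hB.sig]; exact hx⟩

lemma exists_tr_zero : ∃ x : F, x ≠ 0 ∧ x + σ x = 0 := by
  obtain ⟨x, h0, hx⟩ := HermBasic.exists_trace_zero_ne hB.card
  exact ⟨x, h0, by rw [hB.sig]; exact hx⟩

lemma exists_ne {u : V} (hu : u ≠ 0) : ∃ v, B u v ≠ 0 := by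
  by_contra h
  push Not at h
  exact hu (hB.nd u h)

lemma exists_eq_one {u : V} (hu : u ≠ 0) : ∃ v, B u v = 1 := by
  obtain ⟨v, hv⟩ := exists_ne hB hu
  refine ⟨(σ (B u v))⁻¹ • v, ?_⟩
  rw [hB.frm.smul_right, map_inv₀, sig_sig hB, inv_mul_cancel₀ hv]

/-- Norm of `v + c • z`, `z` isotropic. -/
lemma self_add_smul {v z : V} (hz : B z z = 0) (c : F) :
    B (v + c • z) (v + c • z) = B v v + (c * B z v + σ (c * B z v)) := by
  rw [hB.frm.add_left, hB.frm.add_right, hB.frm.add_right, hB.frm.smul_left, hB.frm.smul_left, hB.frm.smul_right,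
    hB.frm.smul_right, hz, symm hB z v, map_mul]
  ring

/-- If `z` is isotropic and `B z v ≠ 0` then some `v + c • z` is isotropic. -/
lemma exists_iso {v z : V} (hz : B z z = 0) (hzv : B z v ≠ 0) :
    ∃ c : F, B (v + c • z) (v + c • z) = 0 := by
  obtain ⟨x, hx⟩ := exists_tr hB (c := -B v v) (by rw [map_neg, self_fix hB])
  refine ⟨x * (B z v)⁻¹, ?_⟩
  rw [self_add_smul hB hz, mul_assoc, inv_mul_cancel₀ hzv, mul_one, hx, add_neg_cancel]

/-- Hyperbolic partner. -/
lemma exists_partner {w : V} (hw : w ≠ 0) (h0 : B w w = 0) : ∃ w', B w' w' = 0 ∧ B w w' = 1 := by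
  obtain ⟨v, hv⟩ := exists_eq_one hB hw
  obtain ⟨c, hc⟩ := exists_iso hB h0 (v := v) (by rw [hv]; exact one_ne_zero)
  refine ⟨v + c • w, hc, ?_⟩
  rw [hB.frm.add_right, hB.frm.smul_right, h0, mul_zero, add_zero, hv]

variable [FiniteDimensional F V]

/-- There are isotropic vectors in dimension at least two. -/
lemma exists_isotropic (hn : 2 ≤ finrank F V) : ∃ w : V, w ≠ 0 ∧ B w w = 0 := by
  have hnt : Nontrivial V := Module.nontrivial_of_finrank_pos (R := F) (by omega)
  obtain ⟨u, hu⟩ := _root_.exists_ne (0 : V)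
  by_cases h1 : B u u = 0
  · exact ⟨u, hu, h1⟩
  -- the orthogonal of `u`
  have h2 := hB.frm.finrank_add_perp_ge (Submodule.span F {u})
  rw [finrank_span_singleton hu] at h2
  have h3 : 0 < finrank F (hB.frm.perp (Submodule.span F {u})) := by omega
  have h4 : Nontrivial (hB.frm.perp (Submodule.span F {u})) := Module.nontrivial_of_finrank_pos (R := F) h3
  obtain ⟨v, hv⟩ := _root_.exists_ne (0 : hB.frm.perp (Submodule.span F {u}))
  have hv0 : (v : V) ≠ 0 := fun h => hv (Subtype.ext h)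
  have hvu : B v u = 0 := v.2 u (Submodule.mem_span_singleton_self u)
  have huv : B u v = 0 := hB.frm.eq_zero_comm.1 hvu
  by_cases h5 : B (v : V) v = 0
  · exact ⟨v, hv0, h5⟩
  obtain ⟨a, ha0, ha⟩ := exists_nm hB (c := -B u u * (B (v : V) v)⁻¹)
    (by rw [map_mul, map_neg, self_fix hB, map_inv₀, self_fix hB])
    (mul_ne_zero (neg_ne_zero.2 h1) (inv_ne_zero h5))
  refine ⟨u + a • (v : V), ?_, ?_⟩
  · intro h
    have h6 : B (u + a • (v : V)) u = 0 := by rw [h, hB.frm.zero_left]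
    rw [hB.frm.add_left, hB.frm.smul_left, hvu, mul_zero, add_zero] at h6
    exact h1 h6
  · rw [hB.frm.add_left, hB.frm.add_right, hB.frm.add_right, hB.frm.smul_left, hB.frm.smul_left, hB.frm.smul_right,
      hB.frm.smul_right, huv, hvu, ← mul_assoc a, ha, mul_assoc, inv_mul_cancel₀ h5]
    ring

/-- There is a hyperbolic pair in dimension at least two. -/
lemma exists_hyp (hn : 2 ≤ finrank F V) : ∃ w w' : V, B w w = 0 ∧ B w' w' = 0 ∧ B w w' = 1 := by
  obtain ⟨w, hw, h0⟩ := exists_isotropic hB hn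
  obtain ⟨w', h1, h2⟩ := exists_partner hB hw h0
  exact ⟨w, w', h0, h1, h2⟩

end

/-! ### the orthogonal of a nondegenerate plane spanned by isotropic vectors -/

/-- The orthogonal of two vectors. -/
def pp (hB : HS q σ B) (w x : V) : Submodule F V where
  carrier := {v | B v w = 0 ∧ B v x = 0}
  add_mem' := by
    rintro a b ⟨h1, h2⟩ ⟨h3, h4⟩
    exact ⟨by rw [hB.frm.add_left, h1, h3, add_zero], by rw [hB.frm.add_left, h2, h4, add_zero]⟩
  zero_mem' := ⟨hB.frm.zero_left _, hB.frm.zero_left _⟩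
  smul_mem' := by
    rintro c a ⟨h1, h2⟩
    exact ⟨by rw [hB.frm.smul_left, h1, mul_zero], by rw [hB.frm.smul_left, h2, mul_zero]⟩

lemma mem_pp (hB : HS q σ B) {w x v : V} : v ∈ pp hB w x ↔ B v w = 0 ∧ B v x = 0 := Iff.rfl

section plane

variable (hB : HS q σ B) {w x : V} (hw : B w w = 0) (hx : B x x = 0) (hwx : B x w ≠ 0) {U : Submodule F V}
  (hU : ∀ v, v ∈ U ↔ B v w = 0 ∧ B v x = 0)

include hB hw hx hwx hU

/-- The projection to `U`. -/
lemma proj_mem (v : V) : v - (B v x * (B w x)⁻¹) • w - (B v w * (B x w)⁻¹) • x ∈ U := by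
  have hwx' : B w x ≠ 0 := fun h => hwx (hB.frm.eq_zero_comm.1 h)
  rw [hU]
  constructor
  · rw [hB.frm.sub_left, hB.frm.sub_left, hB.frm.smul_left, hB.frm.smul_left, hw]
    linear_combination -(B v w) * inv_mul_cancel₀ hwx
  · rw [hB.frm.sub_left, hB.frm.sub_left, hB.frm.smul_left, hB.frm.smul_left, hx]
    linear_combination -(B v x) * inv_mul_cancel₀ hwx'

lemma hs_res : HS q σ (res B U) where
  card := hB.card
  sig := hB.sig
  frm := by
    refine ⟨?_, ?_, ?_, hB.frm.sigma_sq, hB.frm.eps_ne⟩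
    · intro u v w'
      exact hB.frm.add_left _ _ _
    · intro a u v
      exact hB.frm.smul_left _ _ _
    · intro u v
      exact hB.frm.herm _ _
  nd := by
    intro u hu
    apply Subtype.ext
    apply hB.nd
    intro v
    have h1 := hu ⟨_, proj_mem hB hw hx hwx hU v⟩
    have h2 : B (u : V) (v - (B v x * (B w x)⁻¹) • w - (B v w * (B x w)⁻¹) • x) = 0 := h1
    rw [hB.frm.sub_right, hB.frm.sub_right, hB.frm.smul_right, hB.frm.smul_right, ((hU _).1 u.2).1,
      ((hU _).1 u.2).2, mul_zero, mul_zero, sub_zero, sub_zero] at h2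
    exact h2

lemma finrank_pp [FiniteDimensional F V] : finrank F U + 2 = finrank F V := by
  have hwx' : B w x ≠ 0 := fun h => hwx (hB.frm.eq_zero_comm.1 h)
  let φ : V →ₗ[F] F × F :=
    { toFun := fun v => (B v w, B v x)
      map_add' := fun a b => by
        rw [hB.frm.add_left, hB.frm.add_left, Prod.mk_add_mk]
      map_smul' := fun c a => by
        rw [hB.frm.smul_left, hB.frm.smul_left, RingHom.id_apply, Prod.smul_mk, smul_eq_mul, smul_eq_mul] }
  have hφ : ∀ v, φ v = (B v w, B v x) := fun v => rfl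
  have hker : LinearMap.ker φ = U := by
    ext v
    rw [LinearMap.mem_ker, hφ, hU, Prod.mk_eq_zero]
  have hsurj : LinearMap.range φ = ⊤ := by
    rw [LinearMap.range_eq_top]
    rintro ⟨a, b⟩
    refine ⟨(a * (B x w)⁻¹) • x + (b * (B w x)⁻¹) • w, ?_⟩
    rw [hφ, Prod.mk.injEq]
    constructor
    · rw [hB.frm.add_left, hB.frm.smul_left, hB.frm.smul_left, hw]
      linear_combination a * inv_mul_cancel₀ hwx
    · rw [hB.frm.add_left, hB.frm.smul_left, hB.frm.smul_left, hx]
      linear_combination b * inv_mul_cancel₀ hwx'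
  have h1 := LinearMap.finrank_range_add_finrank_ker φ
  rw [hker, hsurj, finrank_top, Module.finrank_prod, Module.finrank_self] at h1
  omega

end plane

end Cfsg.Agent.H951.OreU
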